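import Mathlib

/-!
# Local data of the Tits group used for "no faithful 2-transitive action" (S2197)

`Loc5 G`: commuting elements `x1, x2` of order 5 spanning an elementary abelian group `F` of order 25,
elements `m i` of the normaliser of `F` carrying `⟨x1⟩` to `⟨x1 ^ i * x2⟩` (so the six subgroups of order 5
of `F` are permuted transitively by `N(F)`), and an element `n3` of order 3 of `N(F)`.

`Loc3 G`: an element `g` of order 13 normalised non-trivially by an element `y` of order 3, and elements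
`w1, w2` of order 3 centralising `y` with `w2 * w1 * w2⁻¹ = w1 * y` (so `y` is a central commutator of the
3-group `⟨w1, w2⟩`).
-/

set_option autoImplicit false

namespace Cfsg.Agent.Helper56.T2T

structure Loc5 (G : Type*) [Group G] where
  x1 : G
  x2 : G
  m : Fin 5 → G
  e : Fin 5 → ℕ
  n3 : G
  x1_pow : x1 ^ 5 = 1
  x2_pow : x2 ^ 5 = 1
  x1_ne : x1 ≠ 1
  comm : x1 * x2 = x2 * x1
  indep : x2 ∉ Subgroup.zpowers x1
  e_pos : ∀ i, 0 < e i ∧ e i < 5
  m_x1 : ∀ i : Fin 5, m i * x1 * (m i)⁻¹ = (x1 ^ (i : ℕ) * x2) ^ (e i)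
  m_x2 : ∀ i : Fin 5, ∃ a b : ℕ, m i * x2 * (m i)⁻¹ = x1 ^ a * x2 ^ b
  n3_pow : n3 ^ 3 = 1
  n3_ne : n3 ≠ 1
  n3_x1 : ∃ a b : ℕ, n3 * x1 * n3⁻¹ = x1 ^ a * x2 ^ b
  n3_x2 : ∃ a b : ℕ, n3 * x2 * n3⁻¹ = x1 ^ a * x2 ^ b

/-- the elementary abelian group of order 25 -/
def Loc5.F {G : Type*} [Group G] (L : Loc5 G) : Subgroup G := Subgroup.closure {L.x1, L.x2}

structure Loc3 (G : Type*) [Group G] where
  g : G
  y : G
  w1 : G
  w2 : G
  g_pow : g ^ 13 = 1
  g_ne : g ≠ 1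
  y_pow : y ^ 3 = 1
  y_ne : y ≠ 1
  y_g : y * g * y⁻¹ = g ^ 9
  w1_pow : w1 ^ 3 = 1
  w2_pow : w2 ^ 3 = 1
  w1_y : w1 * y = y * w1
  w2_y : w2 * y = y * w2
  w2_w1 : w2 * w1 * w2⁻¹ = w1 * y

/-- transport of the data along an isomorphism -/
def Loc5.map {G H : Type*} [Group G] [Group H] (L : Loc5 G) (f : G ≃* H) : Loc5 H where
  x1 := f L.x1
  x2 := f L.x2
  m := fun i => f (L.m i)
  e := L.e
  n3 := f L.n3
  x1_pow := by rw [← map_pow, L.x1_pow, map_one]
  x2_pow := by rw [← map_pow, L.x2_pow, map_one]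
  x1_ne := fun h => L.x1_ne (f.injective (by rw [h, map_one]))
  comm := by rw [← map_mul, L.comm, map_mul]
  indep := by
    intro h
    apply L.indep
    rw [Subgroup.mem_zpowers_iff] at h ⊢
    obtain ⟨k, hk⟩ := h
    exact ⟨k, f.injective (by rw [map_zpow, hk])⟩
  e_pos := L.e_pos
  m_x1 := fun i => by
    rw [← map_inv, ← map_mul, ← map_mul, L.m_x1 i, map_pow, map_mul, map_pow]
  m_x2 := fun i => by
    obtain ⟨a, b, h⟩ := L.m_x2 i
    exact ⟨a, b, by rw [← map_inv, ← map_mul, ← map_mul, h, map_mul, map_pow, map_pow]⟩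
  n3_pow := by rw [← map_pow, L.n3_pow, map_one]
  n3_ne := fun h => L.n3_ne (f.injective (by rw [h, map_one]))
  n3_x1 := by
    obtain ⟨a, b, h⟩ := L.n3_x1
    exact ⟨a, b, by rw [← map_inv, ← map_mul, ← map_mul, h, map_mul, map_pow, map_pow]⟩
  n3_x2 := by
    obtain ⟨a, b, h⟩ := L.n3_x2
    exact ⟨a, b, by rw [← map_inv, ← map_mul, ← map_mul, h, map_mul, map_pow, map_pow]⟩

/-- transport of the data along an isomorphism -/
def Loc3.map {G H : Type*} [Group G] [Group H] (L : Loc3 G) (f : G ≃* H) : Loc3 H where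
  g := f L.g
  y := f L.y
  w1 := f L.w1
  w2 := f L.w2
  g_pow := by rw [← map_pow, L.g_pow, map_one]
  g_ne := fun h => L.g_ne (f.injective (by rw [h, map_one]))
  y_pow := by rw [← map_pow, L.y_pow, map_one]
  y_ne := fun h => L.y_ne (f.injective (by rw [h, map_one]))
  y_g := by rw [← map_inv, ← map_mul, ← map_mul, L.y_g, map_pow]
  w1_pow := by rw [← map_pow, L.w1_pow, map_one]
  w2_pow := by rw [← map_pow, L.w2_pow, map_one]
  w1_y := by rw [← map_mul, L.w1_y, map_mul]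
  w2_y := by rw [← map_mul, L.w2_y, map_mul]
  w2_w1 := by rw [← map_inv, ← map_mul, ← map_mul, L.w2_w1, map_mul]

end Cfsg.Agent.Helper56.T2T
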