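import Cfsg.Agent.Helper56.T2T.Defs
import Cfsg.Agent.Helper89.T2T_AR1
import Cfsg.Agent.Helper76.T2T_AR2
import Cfsg.Agent.Helper90.T2T_AR3
import Cfsg.Agent.Helper24.T2T_FST
import Cfsg.Agent.Helper72.T2T_L5
import Cfsg.Agent.Helper30.T2T_C5
import Cfsg.Agent.Helper89.T2T_J25
import Cfsg.Agent.Helper60.T2T_C26a
import Cfsg.Agent.Helper60.T2T_C26b

/-!
# A group of order 17971200 with the local data `Loc5`, `Loc3` has no faithful 2-transitive action

Assembly of the pieces of the farm #13565 (helper89 AR1 J25, helper76 AR2 CNT, helper90 AR3, helper24 FST,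
helper72 L5, helper30 C5, helper60 C26a C26b).
-/

set_option autoImplicit false

namespace Cfsg.Agent.Helper56.T2T

universe u v
variable {G : Type u} [Group G] {Ω : Type v} [MulAction G Ω]

/-- stabilisers of a transitive action -/
theorem card_stabilizer [Finite G] [Fintype Ω] [MulAction.IsPretransitive G Ω] (ω : Ω) :
    Nat.card (MulAction.stabilizer G ω) * Fintype.card Ω = Nat.card G := by
  have h := Subgroup.card_mul_index (MulAction.stabilizer G ω)
  rw [MulAction.index_stabilizer_of_transitive G ω, Nat.card_eq_fintype_card (α := Ω)] at h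
  exact h

/-- degree 26 -/
theorem case_26 (L : Loc3 G) [Finite G] (hG : Nat.card G = 17971200) [Fintype Ω]
    [MulAction.IsPretransitive G Ω] (hN : Fintype.card Ω = 26) : False := by
  have hsemi : ∀ ω : Ω, L.g • ω ≠ ω := by
    intro ω h
    have hmem : L.g ∈ MulAction.stabilizer G ω := h
    have hst := card_stabilizer (G := G) ω
    rw [hN, hG] at hst
    have hcard : Nat.card (MulAction.stabilizer G ω) = 691200 := by omega
    have ho : orderOf L.g = 13 := by
      have : Fact (Nat.Prime 13) := ⟨by norm_num⟩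
      exact orderOf_eq_prime L.g_pow L.g_ne
    have hdvd : orderOf (⟨L.g, hmem⟩ : MulAction.stabilizer G ω) ∣ Nat.card (MulAction.stabilizer G ω) :=
      orderOf_dvd_natCard _
    rw [Subgroup.orderOf_mk, ho, hcard] at hdvd
    omega
  have h1 := Cfsg.Agent.Helper60.T2T.two_fixed L hN hsemi
  have h2 := Cfsg.Agent.Helper60.T2T.nine_dvd (Ω := Ω) L
  rw [h1, hN] at h2
  omega

/-- the abstract theorem -/
theorem main (L5 : Loc5 G) (L3 : Loc3 G) [Finite G] (hG : Nat.card G = 17971200) [Fintype Ω]
    [FaithfulSMul G Ω] (hΩ : 3 ≤ Fintype.card Ω) : ¬ MulAction.IsMultiplyPretransitive G Ω 2 := by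
  intro h2
  have htr : MulAction.IsPretransitive G Ω := MulAction.isPretransitive_of_is_two_pretransitive
  have hd := Cfsg.Agent.Helper89.T2T.card_mul_pred_dvd h2 (by omega)
  rw [hG] at hd
  have hl := Cfsg.Agent.Helper76.T2T.mem_list_of_dvd _ hΩ hd
  have hf := Cfsg.Agent.Helper90.T2T.card_dvd_factorial (G := G) (Ω := Ω)
  rw [hG] at hf
  have h5 : Fintype.card Ω = 16 ∨ Fintype.card Ω = 27 ∨ Fintype.card Ω = 40 ∨ Fintype.card Ω = 65 → False :=
    Cfsg.Agent.Helper30.T2T.case_5local L5 hG (Cfsg.Agent.Helper72.T2T.orbit_equation L5)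
      (Cfsg.Agent.Helper24.T2T.F_normal_form L5)
  simp only [Finset.mem_insert, Finset.mem_singleton] at hl
  rcases hl with h | h | h | h | h | h | h | h | h | h | h | h | h
  · rw [h] at hf; revert hf; decide
  · rw [h] at hf; revert hf; decide
  · rw [h] at hf; revert hf; decide
  · rw [h] at hf; revert hf; decide
  · rw [h] at hf; revert hf; decide
  · rw [h] at hf; revert hf; decide
  · rw [h] at hf; revert hf; decide
  · exact h5 (Or.inl h)
  · exact Cfsg.Agent.Helper89.T2T.case_25 hG h2 h L3.g L3.g_pow L3.g_ne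
  · exact case_26 L3 hG h
  · exact h5 (Or.inr (Or.inl h))
  · exact h5 (Or.inr (Or.inr (Or.inl h)))
  · exact h5 (Or.inr (Or.inr (Or.inr h)))

end Cfsg.Agent.Helper56.T2T
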