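import Cfsg.Agent.Helper56.T2T.Defs

/-!
# Restriction of the local data to a subgroup containing it
-/

set_option autoImplicit false

namespace Cfsg.Agent.Helper56.T2T

/-- restriction of the 5-local data to a subgroup containing all its elements -/
def Loc5.toSubgroup {G : Type*} [Group G] (L : Loc5 G) (H : Subgroup G) (h1 : L.x1 ∈ H) (h2 : L.x2 ∈ H)
    (hm : ∀ i, L.m i ∈ H) (hn : L.n3 ∈ H) : Loc5 H where
  x1 := ⟨L.x1, h1⟩
  x2 := ⟨L.x2, h2⟩
  m := fun i => ⟨L.m i, hm i⟩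
  e := L.e
  n3 := ⟨L.n3, hn⟩
  x1_pow := Subtype.ext (by rw [Subgroup.coe_pow, Subgroup.coe_one]; exact L.x1_pow)
  x2_pow := Subtype.ext (by rw [Subgroup.coe_pow, Subgroup.coe_one]; exact L.x2_pow)
  x1_ne := fun h => L.x1_ne (congrArg Subtype.val h)
  comm := Subtype.ext (by rw [Subgroup.coe_mul, Subgroup.coe_mul]; exact L.comm)
  indep := by
    intro h
    apply L.indep
    rw [Subgroup.mem_zpowers_iff] at h ⊢
    obtain ⟨k, hk⟩ := h
    refine ⟨k, ?_⟩
    have := congrArg Subtype.val hk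
    rw [Subgroup.coe_zpow] at this
    exact this
  e_pos := L.e_pos
  m_x1 := fun i => Subtype.ext (by
    rw [Subgroup.coe_mul, Subgroup.coe_mul, Subgroup.coe_inv, Subgroup.coe_pow, Subgroup.coe_mul,
      Subgroup.coe_pow]
    exact L.m_x1 i)
  m_x2 := fun i => by
    obtain ⟨a, b, h⟩ := L.m_x2 i
    refine ⟨a, b, Subtype.ext ?_⟩
    rw [Subgroup.coe_mul, Subgroup.coe_mul, Subgroup.coe_inv, Subgroup.coe_mul, Subgroup.coe_pow,
      Subgroup.coe_pow]
    exact h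
  n3_pow := Subtype.ext (by rw [Subgroup.coe_pow, Subgroup.coe_one]; exact L.n3_pow)
  n3_ne := fun h => L.n3_ne (congrArg Subtype.val h)
  n3_x1 := by
    obtain ⟨a, b, h⟩ := L.n3_x1
    refine ⟨a, b, Subtype.ext ?_⟩
    rw [Subgroup.coe_mul, Subgroup.coe_mul, Subgroup.coe_inv, Subgroup.coe_mul, Subgroup.coe_pow,
      Subgroup.coe_pow]
    exact h
  n3_x2 := by
    obtain ⟨a, b, h⟩ := L.n3_x2
    refine ⟨a, b, Subtype.ext ?_⟩
    rw [Subgroup.coe_mul, Subgroup.coe_mul, Subgroup.coe_inv, Subgroup.coe_mul, Subgroup.coe_pow,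
      Subgroup.coe_pow]
    exact h

/-- restriction of the 3-local data to a subgroup containing all its elements -/
def Loc3.toSubgroup {G : Type*} [Group G] (L : Loc3 G) (H : Subgroup G) (hg : L.g ∈ H) (hy : L.y ∈ H)
    (h1 : L.w1 ∈ H) (h2 : L.w2 ∈ H) : Loc3 H where
  g := ⟨L.g, hg⟩
  y := ⟨L.y, hy⟩
  w1 := ⟨L.w1, h1⟩
  w2 := ⟨L.w2, h2⟩
  g_pow := Subtype.ext (by rw [Subgroup.coe_pow, Subgroup.coe_one]; exact L.g_pow)
  g_ne := fun h => L.g_ne (congrArg Subtype.val h)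
  y_pow := Subtype.ext (by rw [Subgroup.coe_pow, Subgroup.coe_one]; exact L.y_pow)
  y_ne := fun h => L.y_ne (congrArg Subtype.val h)
  y_g := Subtype.ext (by
    rw [Subgroup.coe_mul, Subgroup.coe_mul, Subgroup.coe_inv, Subgroup.coe_pow]
    exact L.y_g)
  w1_pow := Subtype.ext (by rw [Subgroup.coe_pow, Subgroup.coe_one]; exact L.w1_pow)
  w2_pow := Subtype.ext (by rw [Subgroup.coe_pow, Subgroup.coe_one]; exact L.w2_pow)
  w1_y := Subtype.ext (by rw [Subgroup.coe_mul, Subgroup.coe_mul]; exact L.w1_y)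
  w2_y := Subtype.ext (by rw [Subgroup.coe_mul, Subgroup.coe_mul]; exact L.w2_y)
  w2_w1 := Subtype.ext (by
    rw [Subgroup.coe_mul, Subgroup.coe_mul, Subgroup.coe_inv, Subgroup.coe_mul]
    exact L.w2_w1)

end Cfsg.Agent.Helper56.T2T
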